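import Mathlib.Algebra.Homology.DerivedCategory.Fractions
import Mathlib.Algebra.Homology.DerivedCategory.Ext.ExactSequences

/-!
In any abelian category a positive degree `Ext` class is killed by an epimorphism onto its source.
-/

set_option autoImplicit false
universe w v u

open CategoryTheory CategoryTheory.Limits CategoryTheory.Abelian

namespace Groth.Agent.ExtGen19

variable {A : Type u} [Category.{v} A] [Abelian A] [HasExt.{w} A]

lemma epi_f_zero_of_quasiIso {K L : CochainComplex A ℤ} (s : K ⟶ L) [QuasiIsoAt s 0]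
    [K.IsStrictlyLE 0] [L.IsStrictlyLE 0] [L.IsStrictlyGE 0] : Epi (s.f 0) := by
  have hK : K.d 0 1 = 0 := (K.isZero_of_isStrictlyLE 0 1).eq_of_tgt _ _
  have hL : L.d 0 1 = 0 := (L.isZero_of_isStrictlyLE 0 1).eq_of_tgt _ _
  have hL' : L.d (-1) 0 = 0 := (L.isZero_of_isStrictlyGE 0 (-1)).eq_of_src _ _
  haveI := K.isIso_iCycles 0 1 (by simp) hK
  haveI := L.isIso_iCycles 0 1 (by simp) hL
  haveI := L.isIso_homologyπ (-1) 0 (by simp) hL'
  haveI : IsIso (HomologicalComplex.homologyMap s 0) := (quasiIsoAt_iff_isIso_homologyMap s 0).1 inferInstance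
  haveI : Epi (HomologicalComplex.cyclesMap s 0) := by
    have h : Epi (HomologicalComplex.cyclesMap s 0 ≫ L.homologyπ 0) := by
      rw [← HomologicalComplex.homologyπ_naturality]
      infer_instance
    have := epi_comp (HomologicalComplex.cyclesMap s 0 ≫ L.homologyπ 0) (inv (L.homologyπ 0))
    simpa using this
  have e : s.f 0 = inv (K.iCycles 0) ≫ HomologicalComplex.cyclesMap s 0 ≫ L.iCycles 0 := by
    rw [HomologicalComplex.cyclesMap_i, IsIso.inv_hom_id_assoc]
  rw [e]
  infer_instance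

/-- A positive degree class is killed by an epimorphism onto its source. -/
lemma exists_epi_comp_eq_zero {B C : A} {n : ℕ} (x : Ext.{w} B C (n + 1)) :
    ∃ (E : A) (π : E ⟶ B) (_ : Epi π), (Ext.mk₀ π).comp x (zero_add _) = 0 := by
  letI := HasDerivedCategory.standard A
  let x' : DerivedCategory.Q.obj ((CochainComplex.singleFunctor A 0).obj B) ⟶
      (DerivedCategory.Q.obj ((CochainComplex.singleFunctor A 0).obj C))⟦((n + 1 : ℕ) : ℤ)⟧ := x.hom
  obtain ⟨K, _, s, hs, g, hg⟩ := DerivedCategory.right_fac_of_isStrictlyLE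
    (x' ≫ (DerivedCategory.Q.commShiftIso ((n + 1 : ℕ) : ℤ)).inv.app
      ((CochainComplex.singleFunctor A 0).obj C)) 0
  have : QuasiIso s := (DerivedCategory.isIso_Q_map_iff_quasiIso (φ := s)).1 hs
  have : Epi (s.f 0) := epi_f_zero_of_quasiIso s
  let π : K.X 0 ⟶ B := s.f 0 ≫ (HomologicalComplex.singleObjXSelf (ComplexShape.up ℤ) 0 B).hom
  have hπ : Epi π := by
    dsimp only [π]
    exact epi_comp' inferInstance (IsIso.epi_of_iso (HomologicalComplex.singleObjXSelf (ComplexShape.up ℤ) 0 B).hom)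
  let ι : (CochainComplex.singleFunctor A 0).obj (K.X 0) ⟶ K :=
    HomologicalComplex.mkHomFromSingle (𝟙 (K.X 0)) (fun j hj => (K.isZero_of_isStrictlyLE 0 j
      (by simp at hj; lia)).eq_of_tgt _ _)
  have hι : (CochainComplex.singleFunctor A 0).map π = ι ≫ s := by
    refine HomologicalComplex.from_single_hom_ext ?_
    change ((HomologicalComplex.single A (ComplexShape.up ℤ) 0).map π).f 0 = (ι ≫ s).f 0
    rw [HomologicalComplex.single_map_f_self, HomologicalComplex.comp_f]
    change _ = (HomologicalComplex.mkHomFromSingle (𝟙 (K.X 0)) _).f 0 ≫ s.f 0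
    rw [HomologicalComplex.mkHomFromSingle_f, Category.comp_id]
    refine ((congrArg ((HomologicalComplex.singleObjXSelf (ComplexShape.up ℤ) 0 (K.X 0)).hom ≫ ·)
      (?_ : π ≫ (HomologicalComplex.singleObjXSelf (ComplexShape.up ℤ) 0 B).inv = s.f 0)))
    exact (Category.assoc _ _ _).trans ((congrArg (s.f 0 ≫ ·) (Iso.hom_inv_id _)).trans (Category.comp_id _))
  have h0 : ι ≫ g = 0 := by
    refine HomologicalComplex.from_single_hom_ext (IsZero.eq_of_tgt ?_ _ _)
    exact HomologicalComplex.isZero_single_obj_X (ComplexShape.up ℤ) 0 C (0 + ((n + 1 : ℕ) : ℤ))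
      (show (0 : ℤ) + ((n + 1 : ℕ) : ℤ) ≠ 0 by lia)
  refine ⟨K.X 0, π, hπ, ?_⟩
  ext
  rw [Ext.comp_hom, Ext.mk₀_hom, ShiftedHom.mk₀_comp, Ext.zero_hom]
  have key : DerivedCategory.Q.map ((CochainComplex.singleFunctor A 0).map π) ≫ x' = 0 := by
    refine (cancel_mono ((DerivedCategory.Q.commShiftIso ((n + 1 : ℕ) : ℤ)).inv.app
      ((CochainComplex.singleFunctor A 0).obj C))).1 ?_
    rw [Category.assoc, hg, hι, Functor.map_comp, Category.assoc, IsIso.hom_inv_id_assoc,
      ← Functor.map_comp, h0, Functor.map_zero, zero_comp]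
  exact key

/-- A positive degree class factors through the extension class of an epimorphism onto its source. -/
lemma exists_extClass_comp {B C : A} {n : ℕ} (x : Ext.{w} B C (n + 1)) :
    ∃ (K E : A) (i : K ⟶ E) (π : E ⟶ B) (w' : i ≫ π = 0) (hS : (ShortComplex.mk i π w').ShortExact)
      (y : Ext.{w} K C n), hS.extClass.comp y (by lia) = x := by
  obtain ⟨E, π, _, h⟩ := exists_epi_comp_eq_zero x
  have hS : (ShortComplex.mk (kernel.ι π) π (kernel.condition π)).ShortExact :=
    { exact := ShortComplex.exact_of_f_is_kernel _ (kernelIsKernel π)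
      mono_f := inferInstanceAs (Mono (kernel.ι π))
      epi_g := inferInstanceAs (Epi π) }
  obtain ⟨y, hy⟩ := Ext.contravariant_sequence_exact₃ hS C x h (n₀ := n) (by lia)
  exact ⟨_, _, _, _, _, hS, y, hy⟩

end Groth.Agent.ExtGen19
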